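import Mathlib

/-!
# Two involutions generating a dihedral group of order 8 on an elementary abelian group of order 9
-/

set_option autoImplicit false

namespace CfsgLib.NineDihedral

variable {S : Type*} [Group S]

/-- `a₁` is fixed by `t`, `a₂` is inverted by `t`, `u` exchanges them, and they generate `A`. -/
structure Frame (A : Subgroup S) (t u a₁ a₂ : S) : Prop where
  tt : t * t = 1
  uu : u * u = 1
  mem₁ : a₁ ∈ A
  mem₂ : a₂ ∈ A
  ne : a₁ ≠ a₂
  fix : MulAut.conj t a₁ = a₁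
  inv : MulAut.conj t a₂ = a₂⁻¹
  swap₁ : MulAut.conj u a₁ = a₂
  swap₂ : MulAut.conj u a₂ = a₁
  gen : ∀ a ∈ A, a ∈ Subgroup.closure ({a₁, a₂} : Set S)

theorem span_nine [Finite S] (A : Subgroup S) (hcomm : ∀ a ∈ A, ∀ b ∈ A, a * b = b * a)
    (h3 : ∀ a ∈ A, a ^ 3 = 1) (h9 : Nat.card A = 9) {a b : S} (ha : a ∈ A) (hb : b ∈ A)
    (ha1 : a ≠ 1) (hab : ∀ m : ℕ, b ≠ a ^ m) :
    (∀ i j : ℕ, a ^ i * b ^ j = 1 → i % 3 = 0 ∧ j % 3 = 0) ∧
      ∀ x ∈ A, ∃ i j : ℕ, i < 3 ∧ j < 3 ∧ x = a ^ i * b ^ j := by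
  have hmod : ∀ y ∈ A, ∀ n : ℕ, y ^ n = y ^ (n % 3) := fun y hy n => pow_eq_pow_mod n (h3 y hy)
  have hrel : ∀ i j : ℕ, a ^ i * b ^ j = 1 → i % 3 = 0 ∧ j % 3 = 0 := by
    intro i j h
    have hj : j % 3 = 0 := by
      by_contra hj
      have hbj : b ^ j = a ^ (2 * i) := by
        rw [eq_inv_of_mul_eq_one_right h, inv_eq_of_mul_eq_one_right]
        rw [← pow_add, show i + 2 * i = 3 * i by ring, pow_mul, h3 a ha, one_pow]
      rcases (show j % 3 = 1 ∨ j % 3 = 2 by omega) with h1 | h1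
      · rw [hmod b hb, h1, pow_one] at hbj
        exact hab _ hbj
      · rw [hmod b hb, h1] at hbj
        refine hab (2 * i * 2) ?_
        rw [pow_mul, ← hbj, ← pow_mul, hmod b hb (2 * 2)]
        norm_num
    refine ⟨?_, hj⟩
    rw [hmod b hb, hj, pow_zero, mul_one] at h
    by_contra hi
    rw [hmod a ha] at h
    rcases (show i % 3 = 1 ∨ i % 3 = 2 by omega) with h1 | h1
    · rw [h1, pow_one] at h
      exact ha1 h
    · rw [h1] at h
      have := h3 a ha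
      rw [pow_succ, h, one_mul] at this
      exact ha1 this
  refine ⟨hrel, fun x hx => ?_⟩
  let f : Fin 3 × Fin 3 → A := fun p =>
    ⟨a ^ (p.1 : ℕ) * b ^ (p.2 : ℕ), mul_mem (pow_mem ha _) (pow_mem hb _)⟩
  have hinj : Function.Injective f := by
    rintro ⟨i, j⟩ ⟨k, l⟩ h
    have h' : a ^ (i : ℕ) * b ^ (j : ℕ) = a ^ (k : ℕ) * b ^ (l : ℕ) := congrArg Subtype.val h
    have h0 : a ^ ((i : ℕ) + 2 * k) * b ^ ((j : ℕ) + 2 * l) = 1 := by
      rw [pow_add, pow_add, (show a ^ (i : ℕ) * a ^ (2 * (k : ℕ)) * (b ^ (j : ℕ) * b ^ (2 * (l : ℕ))) =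
          (a ^ (i : ℕ) * b ^ (j : ℕ)) * (a ^ (2 * (k : ℕ)) * b ^ (2 * (l : ℕ))) from
        Commute.mul_mul_mul_comm (hcomm _ (pow_mem ha _) _ (pow_mem hb _)) _ _), h',
        mul_comm 2 (k : ℕ), mul_comm 2 (l : ℕ), pow_mul, pow_mul,
        ← Commute.mul_pow (hcomm _ (pow_mem ha _) _ (pow_mem hb _)), ← pow_succ']
      exact h3 _ (mul_mem (pow_mem ha _) (pow_mem hb _))
    obtain ⟨h1, h2⟩ := hrel _ _ h0
    have := i.isLt; have := j.isLt; have := k.isLt; have := l.isLt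
    exact Prod.ext (Fin.ext (by simp only; omega)) (Fin.ext (by simp only; omega))
  have hbij : Function.Bijective f := (Nat.bijective_iff_injective_and_card f).2
    ⟨hinj, by rw [h9, Nat.card_prod, Nat.card_fin]⟩
  obtain ⟨⟨i, j⟩, hij⟩ := hbij.2 ⟨x, hx⟩
  exact ⟨i, j, i.isLt, j.isLt, (congrArg Subtype.val hij).symm⟩

theorem exists_frame [Finite S] (A : Subgroup S) [A.Normal]
    (hcomm : ∀ a ∈ A, ∀ b ∈ A, a * b = b * a) (h3 : ∀ a ∈ A, a ^ 3 = 1) (h9 : Nat.card A = 9)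
    (hC : ∀ x : S, (∀ a ∈ A, MulAut.conj x a = a) → x ∈ A)
    {t u : S} (ht : t * t = 1) (hu : u * u = 1) (h4 : u * t * (u * t) * (u * t * (u * t)) = 1)
    (htA : t ∉ A) (hzA : u * t * (u * t) ∉ A) :
    ∃ a₁ a₂ : S, Frame A t u a₁ a₂ := by
  set c := MulAut.conj t with hc
  set d := MulAut.conj u with hd
  have hmem : ∀ x : S, ∀ a ∈ A, MulAut.conj x a ∈ A := fun x a ha => by
    rw [MulAut.conj_apply]; exact (inferInstance : A.Normal).conj_mem a ha x
  have cc : ∀ a, c (c a) = a := fun a => by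
    rw [hc, ← MulAut.mul_apply, ← map_mul, ht, map_one, MulAut.one_apply]
  have dd : ∀ a, d (d a) = a := fun a => by
    rw [hd, ← MulAut.mul_apply, ← map_mul, hu, map_one, MulAut.one_apply]
  have hz : ∀ a, MulAut.conj (u * t * (u * t)) a = d (c (d (c a))) := fun a => by
    simp [hc, hd, MulAut.mul_apply]
  have hzz : ∀ a, d (c (d (c (d (c (d (c a))))))) = a := fun a => by
    rw [← hz, ← hz, ← MulAut.mul_apply, ← map_mul, h4, map_one, MulAut.one_apply]
  have hsq : ∀ a ∈ A, a⁻¹ = a ^ 2 := fun a ha =>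
    inv_eq_of_mul_eq_one_right (by rw [← pow_succ']; exact h3 a ha)
  -- a fixed element of `t`
  obtain ⟨a₁, ha₁, ha₁1, hf⟩ : ∃ a ∈ A, a ≠ 1 ∧ c a = a := by
    by_contra h
    push Not at h
    have hinv : ∀ a ∈ A, c a = a⁻¹ := by
      intro a ha
      by_contra hne
      refine h (a * c a) (mul_mem ha (hmem t a ha)) (fun he => hne (eq_inv_of_mul_eq_one_right he)) ?_
      rw [map_mul, cc, hcomm _ (hmem t a ha) _ ha]
    refine hzA (hC _ fun a ha => ?_)
    rw [hz, hinv a ha, map_inv, map_inv, hinv _ (hmem u a ha), inv_inv, dd]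
  -- an inverted element of `t`
  obtain ⟨e, he, he1, hev⟩ : ∃ a ∈ A, a ≠ 1 ∧ c a = a⁻¹ := by
    by_contra h
    push Not at h
    refine htA (hC t fun a ha => ?_)
    by_contra hne
    refine h (a * (c a)⁻¹) (mul_mem ha (inv_mem (hmem t a ha))) (fun hh => hne (mul_inv_eq_one.1 hh).symm) ?_
    rw [map_mul, map_inv, cc, mul_inv_rev, inv_inv]
  have hne : ∀ m : ℕ, e ≠ a₁ ^ m := by
    intro m hm
    have h1 : c e = e := by rw [hm, map_pow, hf]
    have h2 : e * e = 1 := by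
      nth_rewrite 1 [← h1]
      rw [hev, inv_mul_cancel]
    have := h3 e he
    rw [pow_succ, pow_two, h2, one_mul] at this
    exact he1 this
  obtain ⟨hrel, hspan⟩ := span_nine A hcomm h3 h9 ha₁ he ha₁1 hne
  set a₂ := d a₁ with ha₂d
  have ha₂ : a₂ ∈ A := hmem u a₁ ha₁
  have hswap : d a₂ = a₁ := dd a₁
  have hout : ∀ m : ℕ, a₂ ≠ a₁ ^ m := by
    intro k hk
    obtain ⟨p, q, -, -, hpq⟩ := hspan _ (hmem u e he)
    have hk' : d a₁ = a₁ ^ k := hk
    have hd1 : ∀ i j : ℕ, d (a₁ ^ i * e ^ j) = a₁ ^ (k * i + p * j) * e ^ (q * j) := by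
      intro i j
      rw [map_mul, map_pow, map_pow, hk', hpq, Commute.mul_pow (hcomm _ (pow_mem ha₁ _) _ (pow_mem he _)),
        ← pow_mul, ← pow_mul, ← pow_mul, ← mul_assoc, ← pow_add]
    have hc1 : ∀ i j : ℕ, c (a₁ ^ i * e ^ j) = a₁ ^ i * e ^ (2 * j) := by
      intro i j
      rw [map_mul, map_pow, map_pow, hf, hev, hsq e he, ← pow_mul]
    have hcd : d (d e) = a₁ ^ (k * p + p * q) * e ^ (q * q) := by rw [hpq, hd1]
    rw [dd] at hcd
    have hqq : (q * q) % 3 = 1 := by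
      have h0 : a₁ ^ (k * p + p * q) * e ^ (q * q + 2) = 1 := by
        rw [pow_add e, ← mul_assoc, ← hcd, ← pow_succ']; exact h3 e he
      have := (hrel _ _ h0).2
      omega
    have hkk : (k * k) % 3 = 1 := by
      have h0 : a₁ ^ (k * k + 2) * e ^ 0 = 1 := by
        rw [pow_zero, mul_one, pow_add, pow_mul, ← hk', ← map_pow, ← hk', dd, ← pow_succ']
        exact h3 a₁ ha₁
      have := (hrel _ _ h0).1
      omega
    set s := k * (2 * p) + p * (4 * q) with hs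
    have hze : d (c (d (c e))) = a₁ ^ s * e := by
      have h1 : d (c e) = a₁ ^ (2 * p) * e ^ (2 * q) := by
        rw [show c e = a₁ ^ 0 * e ^ 2 by rw [pow_zero, one_mul, hev, hsq e he], hd1]
        congr 2 <;> ring
      rw [h1, hc1, hd1]
      have h4q : (q * (2 * (2 * q))) % 3 = 1 := by
        rw [show q * (2 * (2 * q)) = 3 * (q * q) + q * q by ring, Nat.mul_add_mod, hqq]
      rw [pow_eq_pow_mod (q * (2 * (2 * q))) (h3 e he), h4q, pow_one]
      congr 2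
      rw [hs]; ring
    have hza : d (c (d (c a₁))) = a₁ := by
      rw [hf, hk', map_pow, hf, map_pow, hk', ← pow_mul, pow_eq_pow_mod _ (h3 a₁ ha₁), hkk, pow_one]
    have hs0 : a₁ ^ s = 1 := by
      have h1 := hzz e
      rw [hze, map_mul, map_mul, map_mul, map_mul, map_pow, map_pow, map_pow, map_pow, hza, hze,
        ← mul_assoc, ← pow_add] at h1
      have h2 : a₁ ^ (s + s) = 1 := mul_eq_right.1 h1
      have := (hrel (s + s) 0 (by rw [h2, one_mul, pow_zero])).1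
      rw [pow_eq_pow_mod _ (h3 a₁ ha₁), show s % 3 = 0 by omega, pow_zero]
    refine hzA (hC _ fun a ha => ?_)
    obtain ⟨i, j, -, -, rfl⟩ := hspan a ha
    rw [hz, map_mul, map_mul, map_mul, map_mul, map_pow, map_pow, map_pow, map_pow, map_pow, map_pow,
      map_pow, map_pow, hza, hze, hs0, one_mul]
  obtain ⟨hrel', hspan'⟩ := span_nine A hcomm h3 h9 ha₁ ha₂ ha₁1 hout
  obtain ⟨i, j, hi, hj, hij⟩ := hspan' _ (hmem t a₂ ha₂)
  have hc2 : ∀ k l : ℕ, c (a₁ ^ k * a₂ ^ l) = a₁ ^ (k + i * l) * a₂ ^ (j * l) := by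
    intro k l
    rw [map_mul, map_pow, map_pow, hf, hij, Commute.mul_pow (hcomm _ (pow_mem ha₁ _) _ (pow_mem ha₂ _)),
      ← pow_mul, ← pow_mul, ← mul_assoc, ← pow_add]
  have hd2 : ∀ k l : ℕ, d (a₁ ^ k * a₂ ^ l) = a₁ ^ l * a₂ ^ k := by
    intro k l
    rw [map_mul, map_pow, map_pow, ← ha₂d, hswap, hcomm _ (pow_mem ha₂ _) _ (pow_mem ha₁ _)]
  have e1 : (i + i * j) % 3 = 0 ∧ (j * j + 2) % 3 = 0 := by
    refine hrel' _ _ ?_
    rw [pow_add a₂, ← mul_assoc, show a₁ ^ (i + i * j) * a₂ ^ (j * j) = c (c a₂) by rw [hij, hc2],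
      cc, ← pow_succ']
    exact h3 a₂ ha₂
  have e2 : (j * j + i * (i * j) + 2) % 3 = 0 := by
    have h1 : d (c (d (c a₁))) = a₁ ^ j * a₂ ^ i := by
      rw [hf, ← ha₂d, hij, hd2]
    have h2 : d (c (d (c (a₁ ^ j * a₂ ^ i)))) = a₁ := by rw [← h1, hzz]
    rw [hc2, hd2, hc2, hd2] at h2
    have h3' : a₁ ^ (j * (j + i * i) + 2) * a₂ ^ (j * i + i * (j + i * i)) = 1 := by
      rw [pow_add a₁, mul_assoc, hcomm _ (pow_mem ha₁ 2) _ (pow_mem ha₂ _), ← mul_assoc, h2, ← pow_succ']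
      exact h3 a₁ ha₁
    have := (hrel' _ _ h3').1
    rwa [show j * (j + i * i) + 2 = j * j + i * (i * j) + 2 by ring] at this
  have hval : i = 0 ∧ j = 2 := by
    have hnot : ¬ (i = 0 ∧ j = 1) := by
      rintro ⟨rfl, rfl⟩
      refine htA (hC t fun a ha => ?_)
      obtain ⟨k, l, -, -, rfl⟩ := hspan' a ha
      show c _ = _
      rw [hc2]; simp
    interval_cases i <;> interval_cases j <;> simp at e1 e2 hnot ⊢
  refine ⟨a₁, a₂, ⟨ht, hu, ha₁, ha₂, fun h => hout 1 (by rw [pow_one, ← h]), hf, ?_, rfl, hswap, ?_⟩⟩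
  · rw [hij, hval.1, hval.2, pow_zero, one_mul, hsq a₂ ha₂]
  · intro a ha
    obtain ⟨k, l, -, -, rfl⟩ := hspan' a ha
    exact mul_mem (pow_mem (Subgroup.subset_closure (by simp)) _)
      (pow_mem (Subgroup.subset_closure (by simp)) _)

end CfsgLib.NineDihedral
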