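import Mathlib
import Cfsg.Agent.Lib.NineDihedral.Frame

/-!
# The four-dimensional module over `F₂` of a frame
-/

set_option autoImplicit false

namespace CfsgLib.NineDihedral

theorem coord_eq (a : ZMod 2) : a = 0 ∨ a = 1 := by revert a; decide

theorem count_first :
    Nat.card {c : ZMod 2 × ZMod 2 × ZMod 2 × ZMod 2 //
      (c.1 + c.2.1, c.2.1, c.2.2) = c ∧ (c.1 + c.2.1, c.2.1, c.2.2.1 + c.2.2.2, c.2.2.2) = c} = 4 := by
  rw [Nat.card_eq_fintype_card]; decide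

theorem count_second :
    Nat.card {c : ZMod 2 × ZMod 2 × ZMod 2 × ZMod 2 //
      (c.2.2.1, c.2.2.2, c.1, c.2.1) = c ∧ (c.1 + c.2.1, c.2.1, c.2.2.1 + c.2.2.2, c.2.2.2) = c} = 2 := by
  rw [Nat.card_eq_fintype_card]; decide

variable {S : Type*} [Group S]
variable {M : Type*} [AddCommGroup M] [Module (ZMod 2) M] (ρ : Representation (ZMod 2) S M)

theorem char_two (m : M) : m + m = 0 := by
  rw [← two_smul (ZMod 2) m, show (2 : ZMod 2) = 0 from rfl, zero_smul]

theorem eq_of_add_eq_zero {a b : M} (h : a + b = 0) : a = b := by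
  rw [← add_zero a, ← char_two b, ← add_assoc, h, zero_add]

theorem rho_mul (x y : S) (m : M) : ρ (x * y) m = ρ x (ρ y m) := by
  rw [map_mul]; rfl

/-- A submodule preserved by a generating set is preserved by everything. -/
theorem invariant_of_closure [Finite S] {s : Set S} (hs : Subgroup.closure s = ⊤) (N : Submodule (ZMod 2) M)
    (h : ∀ x ∈ s, ∀ m ∈ N, ρ x m ∈ N) (x : S) : ∀ m ∈ N, ρ x m ∈ N := by
  have hx : x ∈ Subgroup.closure s := by rw [hs]; trivial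
  rw [← Subgroup.mem_toSubmonoid, Subgroup.closure_toSubmonoid_of_finite] at hx
  induction hx using Submonoid.closure_induction with
  | mem y hy => exact h y hy
  | one => intro m hm; rw [map_one]; exact hm
  | mul a b _ _ iha ihb => intro m hm; rw [rho_mul]; exact iha _ (ihb m hm)

theorem conj_eq {x a b : S} (h : MulAut.conj x a = b) : x * a = b * x := by
  rw [← h, MulAut.conj_apply, inv_mul_cancel_right]

theorem card_module [Finite S] [Finite M] {A : Subgroup S} {t u a₁ a₂ : S} (F : Frame A t u a₁ a₂)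
    (hcomm : ∀ a ∈ A, ∀ b ∈ A, a * b = b * a) (h3 : ∀ a ∈ A, a ^ 3 = 1)
    (h4 : u * t * (u * t) * (u * t * (u * t)) = 1)
    (hgen : Subgroup.closure ({a₁, a₂, t, u} : Set S) = ⊤)
    (hirr : ∀ N : Submodule (ZMod 2) M, (∀ s : S, ∀ m ∈ N, ρ s m ∈ N) → N = ⊥ ∨ N = ⊤)
    (hfaith : Function.Injective ρ)
    {v : M} (hv : v ≠ 0) (hv1 : ρ a₁ v = v) :
    Nat.card M = 16 ∧
      Nat.card {m : M // ρ t m = m ∧ ρ (u * t * (u * t)) m = m} = 4 ∧
      Nat.card {m : M // ρ u m = m ∧ ρ (u * t * (u * t)) m = m} = 2 := by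
  classical
  set T := ρ t with hT
  set U := ρ u with hU
  set D₁ := ρ a₁ with hD₁
  set D₂ := ρ a₂ with hD₂
  have TT : ∀ m, T (T m) = m := fun m => by rw [hT, ← rho_mul, F.tt, map_one]; rfl
  have UU : ∀ m, U (U m) = m := fun m => by rw [hU, ← rho_mul, F.uu, map_one]; rfl
  have UD₁ : ∀ m, U (D₁ m) = D₂ (U m) := fun m => by
    rw [hU, hD₁, hD₂, ← rho_mul, ← rho_mul, conj_eq F.swap₁]
  have UD₂ : ∀ m, U (D₂ m) = D₁ (U m) := fun m => by
    rw [hU, hD₁, hD₂, ← rho_mul, ← rho_mul, conj_eq F.swap₂]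
  have TD₁ : ∀ m, T (D₁ m) = D₁ (T m) := fun m => by
    rw [hT, hD₁, ← rho_mul, ← rho_mul, conj_eq F.fix]
  have TD₂ : ∀ m, T (D₂ m) = D₂ (D₂ (T m)) := fun m => by
    rw [hT, hD₂, ← rho_mul, ← rho_mul, ← rho_mul, conj_eq F.inv,
      inv_eq_of_mul_eq_one_right (a := a₂) (b := a₂ * a₂) (by rw [← mul_assoc, ← pow_two, ← pow_succ]; exact h3 _ F.mem₂)]
  have D12 : ∀ m, D₁ (D₂ m) = D₂ (D₁ m) := fun m => by
    rw [hD₁, hD₂, ← rho_mul, ← rho_mul, hcomm _ F.mem₁ _ F.mem₂]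
  have D₂3 : ∀ m, D₂ (D₂ (D₂ m)) = m := fun m => by
    rw [hD₂, ← rho_mul, ← rho_mul, ← pow_two, ← pow_succ, h3 _ F.mem₂, map_one]; rfl
  have stab : ∀ (N : Submodule (ZMod 2) M), (∀ m ∈ N, D₁ m ∈ N ∧ D₂ m ∈ N ∧ T m ∈ N ∧ U m ∈ N) →
      N = ⊥ ∨ N = ⊤ := by
    intro N h
    refine hirr N (invariant_of_closure ρ hgen N ?_)
    intro x hx m hm
    simp only [Set.mem_insert_iff, Set.mem_singleton_iff] at hx
    rcases hx with rfl | rfl | rfl | rfl
    · exact (h m hm).1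
    · exact (h m hm).2.1
    · exact (h m hm).2.2.1
    · exact (h m hm).2.2.2
  -- no common fixed points
  let N₀ : Submodule (ZMod 2) M :=
    LinearMap.eqLocus D₁ LinearMap.id ⊓ LinearMap.eqLocus D₂ LinearMap.id
  have mem₀ : ∀ m, m ∈ N₀ ↔ D₁ m = m ∧ D₂ m = m := fun m => by simp [N₀]
  have hN₀ : N₀ = ⊥ := by
    refine (stab N₀ fun m hm => ?_).resolve_right fun htop => ?_
    · rw [mem₀] at hm
      simp only [mem₀]
      refine ⟨⟨by rw [hm.1, hm.1], by rw [hm.1, hm.2]⟩, ⟨by rw [hm.2, hm.1], by rw [hm.2, hm.2]⟩,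
        ⟨by rw [← TD₁, hm.1], ?_⟩, ⟨by rw [← UD₂, hm.2], by rw [← UD₁, hm.1]⟩⟩
      have h1 : T m = D₂ (D₂ (T m)) := by rw [← TD₂, hm.2]
      conv_rhs => rw [← D₂3 (T m), ← h1]
    · refine F.ne (hfaith (LinearMap.ext fun m => ?_))
      have hm : D₁ m = m ∧ D₂ m = m := (mem₀ m).1 (by rw [htop]; trivial)
      exact hm.1.trans hm.2.symm
  have fix0 : ∀ m, D₁ m = m → D₂ m = m → m = 0 := fun m h1 h2 =>
    (Submodule.mem_bot (ZMod 2)).1 (hN₀ ▸ (mem₀ m).2 ⟨h1, h2⟩)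
  have quad : ∀ m, D₁ m = m → D₂ (D₂ m) = m + D₂ m := fun m h1 => by
    refine eq_of_add_eq_zero (fix0 _ ?_ ?_)
    · rw [map_add, map_add, D12, D12, h1]
    · rw [map_add, map_add, D₂3]; abel
  -- a vector fixed by `a₁`, `t` and `u t u`
  obtain ⟨v₁, hv₁, hv₁1, hv₁T⟩ : ∃ m, m ≠ 0 ∧ D₁ m = m ∧ T m = m := by
    by_cases h : T v = v
    · exact ⟨v, hv, hv1, h⟩
    · refine ⟨v + T v, fun h0 => h (eq_of_add_eq_zero h0).symm, ?_, ?_⟩
      · rw [map_add, hv1, ← TD₁, hv1]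
      · rw [map_add, TT, add_comm]
  have hcTP : ∀ m, T (U (T (U m))) = U (T (U (T m))) := fun m => by
    rw [hT, hU, ← rho_mul, ← rho_mul, ← rho_mul, ← rho_mul, ← rho_mul, ← rho_mul]
    congr 2
    have h := inv_eq_of_mul_eq_one_right h4
    simp only [mul_inv_rev, inv_eq_of_mul_eq_one_right F.tt, inv_eq_of_mul_eq_one_right F.uu] at h
    simpa [mul_assoc] using h
  have fixTD : ∀ x, D₂ x = x → D₂ (T x) = T x := fun x hx => by
    have h1 : T x = D₂ (D₂ (T x)) := by rw [← TD₂, hx]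
    conv_rhs => rw [← D₂3 (T x), ← h1]
  obtain ⟨w, hw, hw1, hwT, hwP⟩ : ∃ m, m ≠ 0 ∧ D₁ m = m ∧ T m = m ∧ U (T (U m)) = m := by
    by_cases h : U (T (U v₁)) = v₁
    · exact ⟨v₁, hv₁, hv₁1, hv₁T, h⟩
    · refine ⟨v₁ + U (T (U v₁)), fun h0 => h (eq_of_add_eq_zero h0).symm, ?_, ?_, ?_⟩
      · rw [map_add, hv₁1, ← UD₂, fixTD _ (by rw [← UD₁, hv₁1])]
      · rw [map_add, hcTP, hv₁T]
      · rw [map_add, map_add, map_add, UU, TT, UU, add_comm]
  -- the coordinates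
  let f : ZMod 2 × ZMod 2 × ZMod 2 × ZMod 2 → M := fun c =>
    c.1 • w + c.2.1 • D₂ w + (c.2.2.1 • U w + c.2.2.2 • U (D₂ w))
  have hDw : D₁ (D₂ w) = D₂ w := by rw [D12, hw1]
  have hq : D₂ (D₂ w) = w + D₂ w := quad w hw1
  have hD2U : ∀ m, D₁ m = m → D₂ (U m) = U m := fun m hm => by rw [← UD₁, hm]
  have hD1U : D₁ (U w) = U (D₂ w) := (UD₂ w).symm
  have hD1UD : D₁ (U (D₂ w)) = U w + U (D₂ w) := by rw [← UD₂, hq, map_add]
  have hTD : T (D₂ w) = w + D₂ w := by rw [TD₂, hwT, hq]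
  have hTU : T (U w) = U w := by
    have := congrArg U hwP
    rwa [UU] at this
  have hPD : U (T (U (D₂ w))) = D₂ w := by rw [UD₂, TD₁, UD₁, hwP]
  have hTUD : T (U (D₂ w)) = U (D₂ w) := by
    have := congrArg U hPD
    rwa [UU] at this
  have hfU : ∀ c, U (f c) = f (c.2.2.1, c.2.2.2, c.1, c.2.1) := fun c => by
    simp only [f, map_add, map_smul, UU]; abel
  have hfT : ∀ c, T (f c) = f (c.1 + c.2.1, c.2.1, c.2.2) := fun c => by
    simp only [f, map_add, map_smul, hwT, hTD, hTU, hTUD, smul_add, add_smul]; abel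
  have hfD₁ : ∀ c, D₁ (f c) = f (c.1, c.2.1, c.2.2.2, c.2.2.1 + c.2.2.2) := fun c => by
    simp only [f, map_add, map_smul, hw1, hDw, hD1U, hD1UD, smul_add, add_smul]; abel
  have hfD₂ : ∀ c, D₂ (f c) = f (c.2.1, c.1 + c.2.1, c.2.2) := fun c => by
    simp only [f, map_add, map_smul, hq, hD2U w hw1, hD2U (D₂ w) hDw, smul_add, add_smul]; abel
  have hinj : Function.Injective f := by
    have key : ∀ c, f c = 0 → c = 0 := by
      rintro ⟨i, j, k, l⟩ h
      have h' : i • w + j • D₂ w = k • U w + l • U (D₂ w) := eq_of_add_eq_zero h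
      have h1 : D₁ (i • w + j • D₂ w) = i • w + j • D₂ w := by
        simp only [map_add, map_smul, hw1, hDw]
      have h2 : D₂ (i • w + j • D₂ w) = i • w + j • D₂ w := by
        rw [h']; simp only [map_add, map_smul, hD2U w hw1, hD2U (D₂ w) hDw]
      have hz := fix0 _ h1 h2
      have hz' : k • w + l • D₂ w = 0 := by
        have := congrArg U (h'.symm.trans hz)
        simpa only [map_add, map_smul, UU, map_zero] using this
      have ind : ∀ i j : ZMod 2, i • w + j • D₂ w = 0 → i = 0 ∧ j = 0 := by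
        intro i j hij
        rcases coord_eq i with rfl | rfl <;> rcases coord_eq j with rfl | rfl <;> simp at hij ⊢
        · have hD : D₂ (D₂ (D₂ w)) = 0 := by rw [hij, map_zero, map_zero]
          exact hw ((D₂3 w).symm.trans hD)
        · exact hw hij
        · exact hw (fix0 w hw1 (eq_of_add_eq_zero hij).symm)
      obtain ⟨rfl, rfl⟩ := ind _ _ hz
      obtain ⟨rfl, rfl⟩ := ind _ _ hz'
      rfl
    intro c c' h
    have h2 : f (c + c') = 0 := by
      have h3 : f (c + c') = f c + f c' := by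
        simp only [f, Prod.fst_add, Prod.snd_add, add_smul]; abel
      rw [h3, h, char_two]
    have := key _ h2
    have hzz : ∀ a b : ZMod 2 × ZMod 2 × ZMod 2 × ZMod 2, a + b = 0 → a = b := fun a b => eq_of_add_eq_zero
    exact hzz _ _ this
  have hsurj : Function.Surjective f := by
    let L : (ZMod 2 × ZMod 2 × ZMod 2 × ZMod 2) →ₗ[ZMod 2] M :=
      { toFun := f
        map_add' := fun c c' => by simp only [f, Prod.fst_add, Prod.snd_add, add_smul]; abel
        map_smul' := fun r c => by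
          simp only [f, Prod.smul_fst, Prod.smul_snd, RingHom.id_apply, smul_add, smul_smul, smul_eq_mul] }
    have hL : ∀ c, L c = f c := fun _ => rfl
    have htop : LinearMap.range L = ⊤ := by
      refine (stab _ ?_).resolve_left ?_
      · rintro m ⟨c, rfl⟩
        exact ⟨⟨_, (hfD₁ c).symm⟩, ⟨_, (hfD₂ c).symm⟩, ⟨_, (hfT c).symm⟩, ⟨_, (hfU c).symm⟩⟩
      · intro h
        have : L (1, 0, 0, 0) ∈ LinearMap.range L := ⟨_, rfl⟩
        rw [h, Submodule.mem_bot, hL] at this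
        exact hw (by simpa [f] using this)
    exact LinearMap.range_eq_top.1 htop
  let e := Equiv.ofBijective f ⟨hinj, hsurj⟩
  refine ⟨?_, ?_, ?_⟩
  · rw [← Nat.card_congr e]; simp [Nat.card_prod]
  all_goals
    have hfZ : ∀ c, ρ (u * t * (u * t)) (f c) = f (c.1 + c.2.1, c.2.1, c.2.2.1 + c.2.2.2, c.2.2.2) := fun c => by
      rw [rho_mul, rho_mul, rho_mul, ← hT, ← hU, hfT, hfU, hfT, hfU]
  · refine Eq.trans ?_ count_first
    refine (Nat.card_congr (e.subtypeEquiv fun c => ?_)).symm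
    show _ ↔ T (f c) = f c ∧ ρ (u * t * (u * t)) (f c) = f c
    rw [hfT, hfZ, hinj.eq_iff, hinj.eq_iff]
  · refine Eq.trans ?_ count_second
    refine (Nat.card_congr (e.subtypeEquiv fun c => ?_)).symm
    show _ ↔ U (f c) = f c ∧ ρ (u * t * (u * t)) (f c) = f c
    rw [hfU, hfZ, hinj.eq_iff, hinj.eq_iff]

end CfsgLib.NineDihedral
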